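import Groth.Agent.PBCPi1.Model
import Groth.Agent.GRingCpl.Dedekind
import Groth.Agent.S0595
import Groth.Agent.S0599
import Groth.Agent.S0600
import Groth.Agent.FormalStalk.Completion
import Groth.Agent.Hensel.Smooth

/-!
Extension of finite étale covers for proper schemes of finite presentation over henselian pairs, through
adic completion and Popescu's theorem.
-/

set_option autoImplicit false
set_option linter.style.haveILetI false
set_option maxHeartbeats 1000000
set_option backward.isDefEq.respectTransparency false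
set_option backward.isDefEq.respectTransparency.types false
universe u

open CategoryTheory CategoryTheory.Limits AlgebraicGeometry TensorProduct

noncomputable section

namespace Groth.Agent.PBCPi1

/-- Rings of finite type over the integers are G-rings. -/
theorem isGRing_of_finiteType_int (R : Type u) [CommRing R] [Algebra.FiniteType ℤ R] : CAlg.IsGRing R := by
  let e : ULift.{u} ℤ ≃+* ℤ := ULift.ringEquiv
  haveI : IsDomain (ULift.{u} ℤ) := e.toMulEquiv.isDomain ℤ
  haveI : IsPrincipalIdealRing (ULift.{u} ℤ) := IsPrincipalIdealRing.of_surjective e.symm.toRingHom e.symm.surjective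
  haveI : CharZero (ULift.{u} ℤ) := e.symm.toRingHom.charZero_iff e.symm.injective |>.1 inferInstance
  have h := GRingCpl.isGRing_of_isDedekindDomain_charZero (ULift.{u} ℤ)
  letI : Algebra (ULift.{u} ℤ) R := ((algebraMap ℤ R).comp e.toRingHom).toAlgebra
  haveI : Algebra.FiniteType (ULift.{u} ℤ) R := by
    rw [← RingHom.finiteType_algebraMap]
    exact RingHom.FiniteType.comp (RingHom.finiteType_algebraMap.2 ‹_›)
      (RingHom.FiniteType.of_surjective _ e.surjective)
  exact Groth.Agent.S0599.result (ULift.{u} ℤ) h R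

/-- Restriction along the identity. -/
def idIso {X : Scheme.{u}} (V : FEt.Cat X) : (FEt.restrict (𝟙 X)).obj V ≅ V :=
  MorphismProperty.Over.isoMk (asIso (pullback.fst (FEtGal.str V) (𝟙 X)))
    (by rw [asIso_hom]; exact (pullback.condition (f := FEtGal.str V) (g := 𝟙 X)).trans (Category.comp_id _))

variable {A₀ : Type u} [CommRing A₀] {X₀ : Scheme.{u}} (f₀ : X₀ ⟶ Spec (CommRingCat.of A₀)) [IsProper f₀]

/-- **Extension from a model.** -/
theorem exists_extension_of_model {A : Type u} [CommRing A] (I : Ideal A) [HenselianRing A I]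
    {R : Type u} [CommRing R] [Algebra.FiniteType ℤ R] (φ₀ : A₀ →+* R) (φ : R →+* A)
    {Rb : Type u} [CommRing Rb] (q : R →+* Rb) (hq : Function.Surjective q) (incl : Rb →+* A ⧸ I)
    (hincl : incl.comp q = (Ideal.Quotient.mk I).comp φ) (V : FEt.Cat (P f₀ (q.comp φ₀))) :
    ∃ W : FEt.Cat (P f₀ (φ.comp φ₀)),
      Nonempty ((FEt.restrict (Pm f₀ (ψ' := (Ideal.Quotient.mk I).comp (φ.comp φ₀)) (Ideal.Quotient.mk I) rfl)).obj W ≅
        (FEt.restrict (Pm f₀ (ψ' := (Ideal.Quotient.mk I).comp (φ.comp φ₀)) incl (by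
          rw [← RingHom.comp_assoc, hincl, RingHom.comp_assoc]))).obj V) := by
  haveI : IsNoetherianRing R := Algebra.FiniteType.isNoetherianRing ℤ R
  let K := RingHom.ker q
  have hK : K.FG := IsNoetherian.noetherian K
  let C := AdicCompletion K R
  let ι : R →+* C := algebraMap R C
  haveI : IsNoetherianRing C := FormalStalk.isNoetherianRing K
  let IC := K.map ι
  haveI : IsAdicComplete K C := AdicCompletion.isAdicComplete hK
  haveI : IsAdicComplete IC C := (IsAdicComplete.map_algebraMap_iff _ _).2 inferInstance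
  let e := RingHom.quotientKerEquivOfSurjective hq
  let ev : C →+* Rb := e.toRingHom.comp (AdicCompletion.evalOneₐ K).toRingHom
  have hev : ev.comp ι = q := RingHom.ext fun r => by
    show e (AdicCompletion.evalOneₐ K (algebraMap R C r)) = q r
    rw [AlgHom.commutes]
    rfl
  have hker : IC ^ (0 + 1) ≤ RingHom.ker ev := by
    rw [zero_add, pow_one]
    refine Ideal.map_le_iff_le_comap.2 fun r hr => ?_
    rw [Ideal.mem_comap, RingHom.mem_ker]
    show (ev.comp ι) r = 0
    rw [hev]
    exact hr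
  let evb : C ⧸ IC ^ (0 + 1) →+* Rb := Ideal.Quotient.lift _ ev hker
  let ρ : Rb →+* C ⧸ IC ^ (0 + 1) :=
    (Ideal.Quotient.lift K ((Ideal.Quotient.mk _).comp ι) fun r hr => by
      show Ideal.Quotient.mk (IC ^ (0 + 1)) (ι r) = 0
      rw [Ideal.Quotient.eq_zero_iff_mem, zero_add, pow_one]
      exact Ideal.mem_map_of_mem _ hr).comp e.symm.toRingHom
  have hρq : ρ.comp q = (Ideal.Quotient.mk _).comp ι := RingHom.ext fun r => by
    simp only [ρ, RingHom.comp_apply, RingEquiv.toRingHom_eq_coe, RingHom.coe_coe]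
    erw [show e.symm (q r) = Ideal.Quotient.mk K r from e.symm_apply_eq.2 rfl, Ideal.Quotient.lift_mk]
    try rfl
  have hevρ : evb.comp ρ = RingHom.id Rb := RingHom.ext fun z => by
    obtain ⟨r, rfl⟩ := hq z
    show evb ((ρ.comp q) r) = q r
    rw [hρq]
    show (ev.comp ι) r = q r
    rw [hev]
  -- the cover over the completion
  let fC := pullback.snd f₀ (Spec.map (CommRingCat.ofHom (ι.comp φ₀)))
  let a : CohB1.thick fC IC 0 ⟶ P f₀ (q.comp φ₀) :=
    pullback.lift (CohB1.thickι fC IC 0 ≫ pullback.fst _ _)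
      (CohB1.thickToBase fC IC 0 ≫ Spec.map (CommRingCat.ofHom ρ)) (by
        rw [Category.assoc, pullback.condition, ← Category.assoc, show CohB1.thickι fC IC 0 ≫ fC =
          CohB1.thickToBase fC IC 0 ≫ CohB1.specQuot IC 0 from pullback.condition, Category.assoc, Category.assoc,
          CohB1.specQuot, ← Spec.map_comp, ← Spec.map_comp, ← CommRingCat.ofHom_comp, ← CommRingCat.ofHom_comp,
          ← RingHom.comp_assoc, ← RingHom.comp_assoc, hρq])
  let b : P f₀ (q.comp φ₀) ⟶ CohB1.thick fC IC 0 :=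
    pullback.lift (Pm f₀ (ψ := ι.comp φ₀) ev (by rw [← RingHom.comp_assoc, hev]))
      (pullback.snd _ _ ≫ Spec.map (CommRingCat.ofHom evb)) (by
        rw [Pm_snd, Category.assoc, CohB1.specQuot, ← Spec.map_comp, ← CommRingCat.ofHom_comp]
        rfl)
  have hba : b ≫ a = 𝟙 _ := by
    refine pullback.hom_ext ?_ ?_
    · rw [Category.assoc, pullback.lift_fst, pullback.lift_fst_assoc, Pm_fst, Category.id_comp]
    · rw [Category.assoc, pullback.lift_snd, pullback.lift_snd_assoc, Category.assoc, ← Spec.map_comp,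
        ← CommRingCat.ofHom_comp, hevρ, Category.id_comp]
      simp
  obtain ⟨W, ⟨eW⟩⟩ := exists_extension_complete IC fC ((FEt.restrict a).obj V)
  haveI : IsIso (𝟙 (P f₀ (q.comp φ₀))) := inferInstance
  let eV : (FEt.restrict (Pm f₀ (ψ := ι.comp φ₀) (ψ' := q.comp φ₀) ev (by rw [← RingHom.comp_assoc, hev]))).obj W ≅ V :=
    (LefEssSurj.restrictComp b (CohB1.thickι fC IC 0) _ (pullback.lift_fst _ _ _)).app W ≪≫
      (FEt.restrict b).mapIso eW ≪≫ ((LefEssSurj.restrictComp b a _ hba).app V).symm ≪≫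
      idIso V
  -- descend to a finite stage
  let S₀ : Subalgebra ℤ C := (ι.toIntAlgHom).range
  have hS₀ : S₀.FG := by
    rw [show S₀ = Subalgebra.map ι.toIntAlgHom ⊤ from (Algebra.map_top _).symm]
    exact Algebra.FiniteType.out.map _
  obtain ⟨B, hB, hle, θ, hθ, VB, ⟨eB⟩⟩ :=
    exists_stage_cover f₀ (ι.comp φ₀) S₀ hS₀ (fun x => ⟨φ₀ x, rfl⟩) W
  let θR : R →+* B := ι.codRestrict B.toSubring fun r => hle ⟨r, rfl⟩
  have hθR : θR.comp φ₀ = θ := RingHom.ext fun x => Subtype.ext (RingHom.congr_fun hθ x).symm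
  letI : Algebra R B := θR.toAlgebra
  haveI : Algebra.FiniteType ℤ B := B.fg_iff_finiteType.1 hB
  haveI : Algebra.FiniteType R B := Algebra.FiniteType.of_restrictScalars_finiteType ℤ R B
  haveI : Algebra.FinitePresentation R B := Algebra.FinitePresentation.of_finiteType.1 inferInstance
  obtain ⟨S, _, _, hS, g, h, hgh⟩ := Groth.Agent.S0595.result R C
    (Groth.Agent.S0600.result R (isGRing_of_finiteType_int R) K) B
    { B.val.toRingHom with commutes' := fun _ => rfl }
  -- lift the section
  haveI := hS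
  letI : Algebra R A := φ.toAlgebra
  haveI : IsScalarTower R A (A ⧸ I) := inferInstance
  let σR : S →ₐ[R] A ⧸ I :=
    { (incl.comp ev).comp h.toRingHom with
      commutes' := fun r => by
        show incl (ev (h (algebraMap R S r))) = Ideal.Quotient.mk I (φ r)
        rw [AlgHom.commutes, show ev (algebraMap R C r) = q r from RingHom.congr_fun hev r]
        exact RingHom.congr_fun hincl r }
  let σ₀ : A ⊗[R] S →ₐ[A] A ⧸ I := Algebra.TensorProduct.lift (Algebra.ofId A _) σR fun _ _ => Commute.all _ _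
  obtain ⟨τ, hτ⟩ := Hensel.exists_smooth_lift (A ⊗[R] S) σ₀
  let χ : B →+* A := (τ.toRingHom.comp (Algebra.TensorProduct.includeRight (R := R) (A := A) (B := S)).toRingHom).comp g.toRingHom
  have hχ : χ.comp θ = φ.comp φ₀ := RingHom.ext fun x => by
    rw [← hθR]
    show τ ((1 : A) ⊗ₜ[R] g (algebraMap R B (φ₀ x))) = φ (φ₀ x)
    rw [AlgHom.commutes, ← Algebra.TensorProduct.includeRight_apply (R := R) (A := A), AlgHom.commutes,
      Algebra.TensorProduct.algebraMap_apply]
    exact τ.commutes (φ (φ₀ x))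
  have hmk : (Ideal.Quotient.mk I).comp χ = (incl.comp ev).comp B.val.toRingHom := RingHom.ext fun z => by
    show Ideal.Quotient.mk I (τ ((1 : A) ⊗ₜ[R] g z)) = incl (ev z.1)
    rw [hτ, Algebra.TensorProduct.lift_tmul, map_one, one_mul]
    show incl (ev (h (g z))) = incl (ev z.1)
    rw [show h (g z) = z.1 from DFunLike.congr_fun hgh z]
  have hee : (incl.comp ev).comp (ι.comp φ₀) = (Ideal.Quotient.mk I).comp (φ.comp φ₀) := RingHom.ext fun x =>
    (congrArg incl (RingHom.congr_fun hev (φ₀ x))).trans (RingHom.congr_fun hincl (φ₀ x))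
  refine ⟨(FEt.restrict (Pm f₀ χ hχ)).obj VB, ⟨?_⟩⟩
  refine pmIso f₀ χ hχ _ rfl ((incl.comp ev).comp B.val.toRingHom)
    (by rw [← hmk, RingHom.comp_assoc, hχ]) hmk VB ≪≫ ?_
  refine (pmIso f₀ B.val.toRingHom hθ (incl.comp ev) hee _ _ rfl VB).symm ≪≫ ?_
  refine (FEt.restrict _).mapIso eB ≪≫ ?_
  refine (pmIso f₀ ev ?_ incl ?_ _ ?_ rfl W).symm ≪≫ (FEt.restrict _).mapIso eV
  · rw [← RingHom.comp_assoc, hev]
  · rw [← RingHom.comp_assoc, hincl, RingHom.comp_assoc]
  · exact hee

end Groth.Agent.PBCPi1
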