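import Groth.Agent.PBCPi1.LevelEtale
import Groth.Agent.S0041
import Groth.Agent.S0289
import Groth.Agent.LefEssSurj.PurStep
import Groth.Agent.FEtGal.Coprod

/-!
Finite étale covers of the closed part extend over proper schemes over adically complete bases.
-/

set_option autoImplicit false
set_option linter.style.haveILetI false
set_option maxHeartbeats 1000000
set_option backward.isDefEq.respectTransparency false
set_option backward.isDefEq.respectTransparency.types false
universe u

open CategoryTheory CategoryTheory.Limits AlgebraicGeometry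

noncomputable section

namespace Groth.Agent.PBCPi1

variable {C : Type u} [CommRing C] (I : Ideal C) {X : Scheme.{u}} (f : X ⟶ Spec (CommRingCat.of C))

theorem isClosedImmersion_thickι (n : ℕ) : IsClosedImmersion (CohB1.thickι f I n) := by
  haveI : IsClosedImmersion (CohB1.specQuot I n) :=
    IsClosedImmersion.spec_of_surjective _ Ideal.Quotient.mk_surjective
  exact MorphismProperty.pullback_fst _ _ inferInstance

theorem thickTrans_ι (n : ℕ) : CohB1.thickTrans f I n ≫ CohB1.thickι f I (n + 1) = CohB1.thickι f I n := by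
  simp [CohB1.thickTrans, CohB1.thickι]

theorem range_thickι (n : ℕ) : Set.range (CohB1.thickι f I n) = {x | I ≤ (f x).asIdeal} := by
  refine (Scheme.Pullback.range_fst (f := f) (g := CohB1.specQuot I n)).trans ?_
  ext x
  show f x ∈ Set.range (PrimeSpectrum.comap (Ideal.Quotient.mk (I ^ (n + 1)))) ↔ _
  rw [range_comap_of_surjective _ _ Ideal.Quotient.mk_surjective, Ideal.mk_ker,
    PrimeSpectrum.zeroLocus_pow I n.succ_ne_zero, PrimeSpectrum.mem_zeroLocus]
  exact Iff.rfl

theorem isEquivalence_thickTrans (n : ℕ) : (FEt.restrict (CohB1.thickTrans f I n)).IsEquivalence := by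
  haveI := isClosedImmersion_thickι I f n
  haveI := isClosedImmersion_thickι I f (n + 1)
  haveI : IsClosedImmersion (CohB1.thickTrans f I n ≫ CohB1.thickι f I (n + 1)) := by rw [thickTrans_ι]; infer_instance
  haveI : IsClosedImmersion (CohB1.thickTrans f I n) := IsClosedImmersion.of_comp _ (CohB1.thickι f I (n + 1))
  haveI : Surjective (CohB1.thickTrans f I n) := ⟨fun x => by
    obtain ⟨y, hy⟩ : CohB1.thickι f I (n + 1) x ∈ Set.range (CohB1.thickι f I n) := by
      rw [range_thickι, ← range_thickι I f (n + 1)]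
      exact ⟨x, rfl⟩
    refine ⟨y, (CohB1.thickι f I (n + 1)).isClosedEmbedding.injective ?_⟩
    rw [← Scheme.Hom.comp_apply, thickTrans_ι, hy]⟩
  exact Groth.Agent.S0289.result _

/-- The tower of unique liftings. -/
def tower (V : FEt.Cat (CohB1.thick f I 0)) : ∀ n, FEt.Cat (CohB1.thick f I n)
  | 0 => V
  | n + 1 =>
    haveI := isEquivalence_thickTrans I f n
    (FEt.restrict (CohB1.thickTrans f I n)).objPreimage (tower V n)

def towerIso (V : FEt.Cat (CohB1.thick f I 0)) (n : ℕ) :
    (FEt.restrict (CohB1.thickTrans f I n)).obj (tower I f V (n + 1)) ≅ tower I f V n :=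
  haveI := isEquivalence_thickTrans I f n
  (FEt.restrict (CohB1.thickTrans f I n)).objObjPreimageIso (tower I f V n)

/-- A cartesian square from an isomorphism of covers. -/
theorem isPullback_of_iso {X' Y' : Scheme.{u}} (g : X' ⟶ Y') {V : FEt.Cat X'} {W : FEt.Cat Y'}
    (e : (FEt.restrict g).obj W ≅ V) :
    IsPullback (e.inv.left ≫ pullback.fst (FEtGal.str W) g) (FEtGal.str V) (FEtGal.str W) g := by
  haveI : IsIso e.inv.left := ((MorphismProperty.Over.forget _ _ _ ⋙ Over.forget _).mapIso e).isIso_inv
  refine (IsPullback.of_hasPullback (FEtGal.str W) g).of_iso (asIso e.inv.left).symm (Iso.refl _) (Iso.refl _)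
    (Iso.refl _) ?_ ?_ (by simp) (by simp)
  · simp
  · simp only [Iso.refl_hom, Category.comp_id, Iso.symm_hom, asIso_inv, IsIso.eq_inv_comp]
    exact MorphismProperty.Over.w e.inv

/-- Conversely, an isomorphism of covers from a cartesian square. -/
theorem nonempty_iso_of_isPullback {X' Y' : Scheme.{u}} (g : X' ⟶ Y') (V : FEt.Cat X') (W : FEt.Cat Y')
    (w : V.left ⟶ W.left) (h : IsPullback w (FEtGal.str V) (FEtGal.str W) g) :
    Nonempty ((FEt.restrict g).obj W ≅ V) :=
  ⟨MorphismProperty.Over.isoMk ((IsPullback.of_hasPullback (FEtGal.str W) g).isoIsPullback _ _ h)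
    (IsPullback.isoIsPullback_hom_snd ..)⟩

/-- **Extension over a complete base.** -/
theorem exists_extension_complete [IsNoetherianRing C] [IsAdicComplete I C] [IsProper f]
    (V : FEt.Cat (CohB1.thick f I 0)) :
    ∃ W : FEt.Cat X, Nonempty ((FEt.restrict (CohB1.thickι f I 0)).obj W ≅ V) := by
  haveI : IsLocallyNoetherian X := LocallyOfFiniteType.isLocallyNoetherian f
  let Y := fun n => tower I f V n
  let t : ∀ n, (Y n).left ⟶ (Y (n + 1)).left :=
    fun n => (towerIso I f V n).inv.left ≫ pullback.fst (FEtGal.str (Y (n + 1))) (CohB1.thickTrans f I n)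
  haveI : IsClosedImmersion (CohB1.thickι f I 0) := isClosedImmersion_thickι I f 0
  haveI : IsClosedImmersion (CohB1.specQuot I 0) :=
    IsClosedImmersion.spec_of_surjective _ Ideal.Quotient.mk_surjective
  haveI : IsProper (CohB1.thickToBase f I 0) := inferInstance
  obtain ⟨W, i, w, hi, -, -, hw⟩ := Groth.Agent.S0041.result C I f (fun n => (Y n).left) (fun n => FEtGal.str (Y n)) t
    (fun n => inferInstance) (fun n => isPullback_of_iso _ (towerIso I f V n)) inferInstance
  haveI := hi
  haveI : Etale i := etale_of_levels I (IsAdicComplete.le_jacobson_bot I) f i fun n {Z} w' y' h' => by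
    have he : (IsPullback.isoIsPullback _ _ h' (hw n)).hom ≫ FEtGal.str (Y n) = y' :=
      IsPullback.isoIsPullback_hom_snd ..
    rw [← he]
    infer_instance
  exact ⟨MorphismProperty.Over.mk ⊤ i ⟨hi, ‹Etale i›⟩, nonempty_iso_of_isPullback _ V _ (w 0) (hw 0)⟩

end Groth.Agent.PBCPi1
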