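import Groth.Agent.FlatAdic.Basic
import Groth.Agent.UnramCMEtale.Basic
import Groth.Agent.UnibranchEtale.Scheme
import Groth.Agent.ZarConn.Pair
import Groth.Prelude.Def_CohB1

/-!
A finite morphism to a proper scheme over an adic base which is étale on all thickenings of the closed part
is étale.
-/

set_option autoImplicit false
set_option linter.style.haveILetI false
set_option maxHeartbeats 1000000
set_option backward.isDefEq.respectTransparency false
set_option backward.isDefEq.respectTransparency.types false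
universe u

open CategoryTheory CategoryTheory.Limits AlgebraicGeometry TensorProduct

noncomputable section

namespace Groth.Agent.PBCPi1

/-- Levelwise étale finite algebras are étale at the points over the ideal. -/
theorem isEtaleAt_of_levels {R B : Type u} [CommRing R] [IsNoetherianRing R] [CommRing B] [Algebra R B]
    [Module.Finite R B] (J : Ideal R) (h : ∀ n : ℕ, 0 < n → Algebra.Etale (R ⧸ J ^ n) ((R ⧸ J ^ n) ⊗[R] B))
    (q : Ideal B) [q.IsPrime] (hq : J.map (algebraMap R B) ≤ q) : Algebra.IsEtaleAt R q := by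
  haveI : IsNoetherianRing B := IsNoetherianRing.of_finite R B
  haveI : Algebra.FinitePresentation R B := Algebra.FinitePresentation.of_finiteType.1 inferInstance
  let S := Localization.AtPrime q
  have hflat : Module.Flat R S := by
    refine FlatAdic.flat_of_flat_truncations J ?_ fun n hn => ?_
    · rw [IsLocalRing.jacobson_eq_maximalIdeal ⊥ bot_ne_top, IsScalarTower.algebraMap_eq R B S, ← Ideal.map_map,
        ← Localization.AtPrime.map_eq_maximalIdeal]
      exact Ideal.map_mono hq
    · let R' := R ⧸ J ^ n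
      let C := R' ⊗[R] B
      haveI : Algebra.Etale R' C := h n hn
      have hf : (IsScalarTower.toAlgHom R B S).Flat :=
        RingHom.flat_algebraMap_iff.2 (IsLocalization.flat S q.primeCompl)
      have h1 := RingHom.Flat.lTensor (S := R') (A := R') hf
      have h2 : (algebraMap R' C).Flat := RingHom.flat_algebraMap_iff.2 inferInstance
      have h3 := RingHom.Flat.comp h2 h1
      rw [← RingHom.flat_algebraMap_iff]
      convert h3 using 1
      exact RingHom.ext fun r => by
        show r ⊗ₜ[R] (1 : S) = Algebra.TensorProduct.lTensor R' (IsScalarTower.toAlgHom R B S) (r ⊗ₜ[R] (1 : B))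
        simp
  haveI : Algebra.IsUnramifiedAt R q := by
    show (⟨q, inferInstance⟩ : PrimeSpectrum B) ∈ Algebra.unramifiedLocus R B
    rw [Algebra.unramifiedLocus_eq_compl_support]
    intro hsupp
    let R' := R ⧸ J ^ 1
    let C := R' ⊗[R] B
    haveI : Algebra.Etale R' C := h 1 one_pos
    letI : Algebra B C := Algebra.TensorProduct.rightAlgebra
    haveI : Algebra.IsPushout R R' B C := TensorProduct.isPushout
    haveI : Subsingleton (R' ⊗[R] Ω[B⁄R]) :=
      (KaehlerDifferential.tensorKaehlerEquivBase R R' B C).toEquiv.subsingleton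
    haveI : Subsingleton (Ω[B⁄R] ⧸ (J ^ 1) • (⊤ : Submodule R Ω[B⁄R])) :=
      (TensorProduct.quotTensorEquivQuotSMul Ω[B⁄R] (J ^ 1)).symm.toEquiv.subsingleton
    have hle : (⊤ : Submodule B Ω[B⁄R]) ≤ ((J ^ 1).map (algebraMap R B)) • ⊤ := fun x _ => by
      have hx : x ∈ (J ^ 1) • (⊤ : Submodule R Ω[B⁄R]) :=
        (Submodule.Quotient.mk_eq_zero _).1 (Subsingleton.elim _ _)
      refine Submodule.smul_induction_on hx (fun r hr y _ => ?_) fun _ _ => add_mem
      rw [← algebraMap_smul B r y]
      exact Submodule.smul_mem_smul (Ideal.mem_map_of_mem _ hr) trivial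
    obtain ⟨c, hc, hc0⟩ := Submodule.exists_sub_one_mem_and_smul_eq_zero_of_fg_of_le_smul _ ⊤
      (IsNoetherian.noetherian _) hle
    refine Module.notMem_support_iff'.2 (fun m => ⟨c, fun hcq => ?_, hc0 m trivial⟩) hsupp
    refine (inferInstance : q.IsPrime).ne_top ((Ideal.eq_top_iff_one q).2 ?_)
    rw [← sub_sub_cancel c 1]
    exact sub_mem hcq ((pow_one J).symm ▸ hq <| hc)
  exact UnramCMEtale.isEtaleAt_of_flat q hflat

/-- Levelwise étale finite morphisms over a proper base are étale. -/
theorem etale_of_levels {C : Type u} [CommRing C] [IsNoetherianRing C] (I : Ideal C) (hI : I ≤ Ideal.jacobson ⊥)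
    {X W : Scheme.{u}} (f : X ⟶ Spec (CommRingCat.of C)) [IsProper f] (i : W ⟶ X) [IsFinite i]
    (h : ∀ n, ∀ {Y : Scheme.{u}} (w : Y ⟶ W) (y : Y ⟶ CohB1.thick f I n),
      IsPullback w y i (CohB1.thickι f I n) → Etale y) : Etale i := by
  haveI : IsLocallyNoetherian X := LocallyOfFiniteType.isLocallyNoetherian f
  let S : Set W := {w | ∃ W' : W.Opens, w ∈ W' ∧ Etale (W'.ι ≫ i)}
  have hSo : IsOpen S := isOpen_iff_forall_mem_open.2 fun w ⟨W', hw, he⟩ => ⟨W', fun x hx => ⟨W', hx, he⟩, W'.2, hw⟩
  have hover : ∀ w : W, I ≤ (f (i w)).asIdeal → w ∈ S := fun w hw => by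
    obtain ⟨U, hU, hwU, -⟩ := exists_isAffineOpen_mem_and_subset (x := i w) (U := (⊤ : X.Opens)) trivial
    let V := i ⁻¹ᵁ U
    have hV : IsAffineOpen V := hU.preimage i
    let R := Γ(X, U)
    let B := Γ(W, V)
    haveI : IsNoetherianRing R := IsLocallyNoetherian.component_noetherian ⟨U, hU⟩
    let φ : CommRingCat.of R ⟶ CommRingCat.of B := i.app U
    letI : Algebra R B := φ.hom.toAlgebra
    haveI : Module.Finite R B := RingHom.finite_algebraMap.1 (IsFinite.finite_app (f := i) U hU)
    let c : CommRingCat.of C ⟶ R := Spec.preimage (hU.fromSpec ≫ f)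
    have hc : Spec.map c = hU.fromSpec ≫ f := Spec.map_preimage _
    let J : Ideal R := I.map c.hom
    have hsqV : IsPullback hV.fromSpec (Spec.map φ) i hU.fromSpec := by
      have hcomm : Spec.map φ ≫ hU.fromSpec = hV.fromSpec ≫ i := by
        have h := hU.SpecMap_appLE_fromSpec i hV le_rfl
        rwa [show i.appLE U (i ⁻¹ᵁ U) le_rfl = i.app U by simp [Scheme.Hom.appLE]] at h
      refine ((isPullback_morphismRestrict i U).flip).of_iso (hV.isoSpec) (Iso.refl _) (hU.isoSpec) (Iso.refl _)
        ?_ ?_ ?_ ?_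
      · rw [IsAffineOpen.fromSpec]; simp only [Iso.refl_hom, Category.comp_id, Iso.hom_inv_id_assoc]; rfl
      · rw [← cancel_mono hU.fromSpec, Category.assoc, Category.assoc, hcomm,
          IsAffineOpen.fromSpec, IsAffineOpen.fromSpec, Iso.hom_inv_id_assoc]
        simp only [Category.assoc, Iso.hom_inv_id_assoc]
        exact morphismRestrict_ι i U
      · simp
      · rw [IsAffineOpen.fromSpec]; simp only [Iso.refl_hom, Category.comp_id, Iso.hom_inv_id_assoc]
    haveI : IsNoetherianRing B := IsNoetherianRing.of_finite R B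
    haveI : Algebra.FinitePresentation R B := Algebra.FinitePresentation.of_finiteType.1 inferInstance
    have hlev : ∀ n : ℕ, 0 < n → Algebra.Etale (R ⧸ J ^ n) ((R ⧸ J ^ n) ⊗[R] B) := fun n hn => by
      obtain ⟨n, rfl⟩ := Nat.exists_eq_succ_of_ne_zero hn.ne'
      let R' := R ⧸ J ^ (n + 1)
      let mk : CommRingCat.of R ⟶ CommRingCat.of R' := CommRingCat.ofHom (algebraMap R R')
      have hle : I ^ (n + 1) ≤ (RingHom.ker (mk.hom.comp c.hom)) := fun x hx => by
        rw [RingHom.mem_ker]
        show Ideal.Quotient.mk (J ^ (n + 1)) (c.hom x) = 0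
        rw [Ideal.Quotient.eq_zero_iff_mem, ← Ideal.map_pow]
        exact Ideal.mem_map_of_mem _ hx
      let d : Spec (CommRingCat.of R') ⟶ Spec (CommRingCat.of (C ⧸ I ^ (n + 1))) :=
        Spec.map (CommRingCat.ofHom (Ideal.Quotient.lift (I ^ (n + 1)) (mk.hom.comp c.hom) hle))
      have hd : d ≫ CohB1.specQuot I n = (Spec.map mk ≫ hU.fromSpec) ≫ f := by
        rw [Category.assoc, ← hc, CohB1.specQuot, ← Spec.map_comp, ← Spec.map_comp]
        rfl
      let l : Spec (CommRingCat.of R') ⟶ CohB1.thick f I n := pullback.lift (Spec.map mk ≫ hU.fromSpec) d hd.symm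
      let g := pullback.snd i (CohB1.thickι f I n)
      haveI : Etale g := h n (pullback.fst _ _) g (IsPullback.of_hasPullback _ _)
      have h1 : IsPullback (pullback.fst g l ≫ pullback.fst i (CohB1.thickι f I n)) (pullback.snd g l) i
          (Spec.map mk ≫ hU.fromSpec) := by
        have := (IsPullback.of_hasPullback g l).paste_horiz (IsPullback.of_hasPullback i (CohB1.thickι f I n))
        rwa [pullback.lift_fst] at this
      have h2 := (isPullback_SpecMap_of_isPushout _ _ _ _ (CommRingCat.isPushout_tensorProduct R B R').flip).flip.paste_horiz hsqV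
      let κ := (IsPullback.isoIsPullback _ _ (IsPullback.flip (IsPullback.flip h1)) h2)
      letI : Algebra R' (B ⊗[R] R') := Algebra.TensorProduct.rightAlgebra
      have h3 : Etale (Spec.map (CommRingCat.ofHom (algebraMap R' (B ⊗[R] R')) )) := by
        letI : Algebra R' (B ⊗[R] R') := Algebra.TensorProduct.rightAlgebra
        have hκ : κ.inv ≫ pullback.snd g l = Spec.map (CommRingCat.ofHom (algebraMap R' (B ⊗[R] R'))) :=
          IsPullback.isoIsPullback_inv_snd _ _ _ _
        rw [← hκ]
        infer_instance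
      letI : Algebra R' (B ⊗[R] R') := Algebra.TensorProduct.rightAlgebra
      rw [HasRingHomProperty.Spec_iff (P := @Etale)] at h3
      replace h3 : (algebraMap R' (B ⊗[R] R')).Etale := h3
      rw [RingHom.etale_algebraMap] at h3
      exact Algebra.Etale.of_equiv (A := B ⊗[R] R')
        (AlgEquiv.ofRingEquiv (f := (Algebra.TensorProduct.comm R B R').toRingEquiv) fun r => by
          show (Algebra.TensorProduct.comm R B R') ((1 : B) ⊗ₜ[R] r) = r ⊗ₜ[R] (1 : B); simp)
    have hq : J.map (algebraMap R B) ≤ (hV.primeIdealOf ⟨w, hwU⟩).asIdeal := by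
      rw [Ideal.map_le_iff_le_comap, Ideal.map_le_iff_le_comap]
      have hp : Spec.map φ (hV.primeIdealOf ⟨w, (hwU : w ∈ V)⟩) = hU.primeIdealOf ⟨i w, hwU⟩ := by
        apply hU.fromSpec.isOpenEmbedding.injective
        refine ((Scheme.Hom.comp_apply (Spec.map φ) hU.fromSpec _).symm.trans ?_).trans
          (hU.fromSpec_primeIdealOf ⟨i w, hwU⟩).symm
        refine (congrArg (fun m : Spec (CommRingCat.of B) ⟶ X => m (hV.primeIdealOf ⟨w, hwU⟩)) hsqV.w).symm.trans ?_
        exact (Scheme.Hom.comp_apply _ _ _).trans (congrArg i (hV.fromSpec_primeIdealOf ⟨w, hwU⟩))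
      refine le_trans hw (le_of_eq ?_)
      have hf : f (i w) = Spec.map c (hU.primeIdealOf ⟨i w, hwU⟩) := by
        rw [hc, Scheme.Hom.comp_apply, hU.fromSpec_primeIdealOf]
      rw [hf, ← hp]
      rfl
    haveI := isEtaleAt_of_levels J hlev _ hq
    obtain ⟨g, hg, hge⟩ := Algebra.exists_etale_of_isEtaleAt (R := R) (hV.primeIdealOf ⟨w, hwU⟩).asIdeal
    refine UnibranchEtale.exists_opens_etale i w hU hV hwU le_rfl g hg ?_
    have hal : i.appLE U V le_rfl = i.app U := by simp [Scheme.Hom.appLE, V]
    rw [hal]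
    exact hge
  have hall : ∀ w, w ∈ S := fun w => by
    by_contra hw
    obtain ⟨x, ⟨w', hw', rfl⟩, hxI⟩ := ZarConn.exists_mem_over_ideal f hI (i '' Sᶜ)
      (i.isClosedMap _ hSo.isClosed_compl) ⟨i w, w, hw, rfl⟩
    exact hw' (hover w' hxI)
  choose W' hW' he using hall
  exact (IsZariskiLocalAtSource.iff_of_iSup_eq_top (P := @Etale) W'
    (top_le_iff.1 fun w _ => TopologicalSpace.Opens.mem_iSup.2 ⟨w, hW' w⟩)).2 he

end Groth.Agent.PBCPi1
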