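import Groth.Agent.PBCPi1.Approx
import Groth.Agent.ZarConn.PairFP
import Groth.Agent.S2079
import Groth.Agent.FEtHens.Basic

/-!
Proper base change for finite étale covers over henselian pairs.
-/

set_option autoImplicit false
set_option linter.style.haveILetI false
set_option maxHeartbeats 1000000
set_option backward.isDefEq.respectTransparency false
set_option backward.isDefEq.respectTransparency.types false
universe u

open CategoryTheory CategoryTheory.Limits AlgebraicGeometry

noncomputable section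

namespace Groth.Agent.PBCPi1

variable {A : Type u} [CommRing A] (I : Ideal A) [HenselianRing A I]

/-- Extension, finite presentation. -/
theorem exists_extension_fp {X : Scheme.{u}} (f : X ⟶ Spec (CommRingCat.of A)) [IsProper f]
    [LocallyOfFinitePresentation f] (V : FEt.Cat (pullback f (Spec.map (CommRingCat.ofHom (Ideal.Quotient.mk I))))) :
    ∃ W : FEt.Cat X, Nonempty ((FEt.restrict (pullback.fst f (Spec.map (CommRingCat.ofHom (Ideal.Quotient.mk I))))).obj W ≅ V) := by
  classical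
  obtain ⟨A₀, hA₀, X₀, f₀, g, hf₀, -, hsq⟩ := ZarConn.exists_model_proper f
  haveI := hf₀
  let ψ₀ : ↥A₀ →+* A := algebraMap (↥A₀) A
  let qI : A →ₐ[ℤ] A ⧸ I := Ideal.Quotient.mkₐ ℤ I
  let ψI : ↥A₀ →+* A ⧸ I := (Ideal.Quotient.mk I).comp ψ₀
  let v : pullback f (Spec.map (CommRingCat.ofHom (Ideal.Quotient.mk I))) ⟶ P f₀ ψI :=
    pullback.lift (pullback.fst _ _ ≫ g) (pullback.snd _ _) (by
      rw [Category.assoc, hsq.w, pullback.condition_assoc, ← Spec.map_comp, ← CommRingCat.ofHom_comp])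
  have hv : IsPullback (pullback.fst f (Spec.map (CommRingCat.ofHom (Ideal.Quotient.mk I))) ≫ g)
      (pullback.snd _ _) f₀ (Spec.map (CommRingCat.ofHom ψI)) := by
    have := (IsPullback.of_hasPullback f (Spec.map (CommRingCat.ofHom (Ideal.Quotient.mk I)))).paste_horiz hsq
    rwa [← Spec.map_comp, ← CommRingCat.ofHom_comp] at this
  haveI : IsIso v := by
    rw [show v = hv.isoPullback.hom from pullback.hom_ext
      (by rw [pullback.lift_fst, IsPullback.isoPullback_hom_fst])
      (by rw [pullback.lift_snd, IsPullback.isoPullback_hom_snd])]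
    infer_instance
  obtain ⟨B, hB, hle, θ, hθ, VB, ⟨eB⟩⟩ := exists_stage_cover f₀ ψI (A₀.map qI) (hA₀.map qI)
    (fun a => ⟨a, a.2, rfl⟩) ((FEt.restrict (inv v)).obj V)
  obtain ⟨s, hs⟩ := hB
  choose lift hlift using fun z : A ⧸ I ↦ Ideal.Quotient.mk_surjective z
  let R : Subalgebra ℤ A := A₀ ⊔ Algebra.adjoin ℤ (lift '' (s : Set (A ⧸ I)))
  have hR : R.FG := hA₀.sup ⟨s.image lift, by rw [Finset.coe_image]⟩
  haveI : Algebra.FiniteType ℤ R := R.fg_iff_finiteType.1 hR
  have hmap : R.map qI = B := by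
    rw [Algebra.map_sup, AlgHom.map_adjoin, Set.image_image]
    have : (fun z ↦ qI (lift z)) '' (s : Set (A ⧸ I)) = s := by simp [qI, hlift]
    rw [this, hs]
    exact sup_eq_right.mpr hle
  let q : ↥R →+* ↥B := ((qI.comp R.val).codRestrict B fun b ↦ hmap.le ⟨b, b.2, rfl⟩).toRingHom
  have hq : Function.Surjective q := fun z ↦ by
    obtain ⟨b, hb, hbz⟩ := hmap.ge z.2
    exact ⟨⟨b, hb⟩, Subtype.ext hbz⟩
  let φ₀ : ↥A₀ →+* ↥R := (Subalgebra.inclusion (le_sup_left : A₀ ≤ R)).toRingHom
  have hθ' : θ = q.comp φ₀ := RingHom.ext fun a => Subtype.ext (RingHom.congr_fun hθ a)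
  subst hθ'
  obtain ⟨W, ⟨eW⟩⟩ := exists_extension_of_model f₀ I φ₀ R.val.toRingHom q hq B.val.toRingHom
    (RingHom.ext fun _ => rfl) VB
  have hsq' : IsPullback g f f₀ (Spec.map (CommRingCat.ofHom (R.val.toRingHom.comp φ₀))) := hsq
  let u : X ⟶ P f₀ (R.val.toRingHom.comp φ₀) := hsq'.isoPullback.hom
  have hu : v ≫ Pm f₀ (ψ := R.val.toRingHom.comp φ₀) (ψ' := ψI) (Ideal.Quotient.mk I) rfl =
      pullback.fst f (Spec.map (CommRingCat.ofHom (Ideal.Quotient.mk I))) ≫ u := by
    refine pullback.hom_ext ?_ ?_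
    · rw [Category.assoc, Pm_fst, pullback.lift_fst, Category.assoc, IsPullback.isoPullback_hom_fst]
    · rw [Category.assoc, Pm_snd, pullback.lift_snd_assoc, Category.assoc, IsPullback.isoPullback_hom_snd,
        pullback.condition]
  refine ⟨(FEt.restrict u).obj W, ⟨?_⟩⟩
  refine ((LefEssSurj.restrictComp _ u _ rfl).app W).symm ≪≫
    (LefEssSurj.restrictComp v _ _ hu).app W ≪≫ (FEt.restrict v).mapIso (eW ≪≫ eB) ≪≫
    ((LefEssSurj.restrictComp v (inv v) _ (IsIso.hom_inv_id v)).app V).symm ≪≫ idIso V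

/-- Extension for proper schemes. -/
theorem exists_extension {X : Scheme.{u}} (f : X ⟶ Spec (CommRingCat.of A)) [IsProper f]
    (V : FEt.Cat (pullback f (Spec.map (CommRingCat.ofHom (Ideal.Quotient.mk I))))) :
    ∃ W : FEt.Cat X, Nonempty ((FEt.restrict (pullback.fst f (Spec.map (CommRingCat.ofHom (Ideal.Quotient.mk I))))).obj W ≅ V) := by
  let S := Spec (CommRingCat.of A)
  let s := Spec.map (CommRingCat.ofHom (Ideal.Quotient.mk I))
  obtain ⟨J, _, _, D, c, hc, e, htr, hD⟩ := Groth.Agent.S2079.result f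
  haveI : IsConnected J := IsCofiltered.isConnected J
  obtain ⟨i₀⟩ := (IsCofiltered.nonempty : Nonempty J)
  haveI : ∀ i, IsProper (D.obj i).hom := fun i => (hD i).2.1
  let D' := D ⋙ Over.forget S
  let c' := (Over.forget S).mapCone c
  have hc' : IsLimit c' := isLimitOfPreserves (Over.forget S) hc
  haveI : ∀ (i j : J) (a : i ⟶ j), IsClosedImmersion (D'.map a) := htr
  haveI : ∀ {i j : J} (a : i ⟶ j), IsAffineHom (D'.map a) := fun {i j} a => inferInstance
  let g₀ : pullback (D.obj i₀).hom s ⟶ D'.obj i₀ := pullback.fst _ _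
  let g' : pullback f s ⟶ c'.pt := pullback.fst f s ≫ e.inv.left
  have hf' : e.inv.left ≫ (c.π.app i₀).left ≫ (D.obj i₀).hom = f :=
    (congrArg (e.inv.left ≫ ·) (Over.w (c.π.app i₀))).trans (Over.w e.inv)
  let qY : pullback f s ⟶ pullback (D.obj i₀).hom s :=
    pullback.lift (g' ≫ (c.π.app i₀).left) (pullback.snd f s) (by
      rw [Category.assoc, Category.assoc, hf']
      exact pullback.condition)
  have hY : IsPullback qY g' g₀ (c'.π.app i₀) := by
    refine IsPullback.flip (IsPullback.of_bot ?_ (pullback.lift_fst _ _ _).symm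
      (IsPullback.of_hasPullback (D.obj i₀).hom s))
    refine (IsPullback.of_hasPullback f s).of_iso (Iso.refl _) ((Over.forget S).mapIso e.symm) (Iso.refl _) (Iso.refl _)
      ?_ ?_ ?_ ?_
    · simp [g']
    · simp [qY]
    · simp only [Iso.refl_hom, Category.comp_id]
      exact hf'.symm
    · simp
  haveI : ∀ i, CompactSpace (D'.obj i) := fun i => QuasiCompact.compactSpace_of_compactSpace (D.obj i).hom
  haveI : ∀ i, QuasiSeparatedSpace (D'.obj i) := fun i => quasiSeparatedSpace_of_quasiSeparated (D.obj i).hom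
  haveI : CompactSpace ↥(pullback (D.obj i₀).hom s) := QuasiCompact.compactSpace_of_compactSpace (pullback.snd (D.obj i₀).hom s)
  haveI : QuasiSeparatedSpace ↥(pullback (D.obj i₀).hom s) :=
    quasiSeparatedSpace_of_quasiSeparated (pullback.snd (D.obj i₀).hom s)
  haveI : ∀ j, CompactSpace ((LimDesc.tower D' g₀).obj j) := fun j => LimDesc.compactSpace_stage D' g₀ j
  haveI : ∀ j, QuasiSeparatedSpace ((LimDesc.tower D' g₀).obj j) := fun j => LimDesc.quasiSeparatedSpace_stage D' g₀ j
  obtain ⟨j, Vj, ⟨ej⟩⟩ := FEtLim.exists_model (LimDesc.tower D' g₀) (LimDesc.towerCone D' g₀ c' hY)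
    (LimDesc.isLimitTowerCone D' g₀ c' hY hc') V
  haveI : LocallyOfFinitePresentation (D.obj j.left).hom := (hD j.left).2.2
  have hst : IsPullback (LimDesc.toStage D' g₀ j) (LimDesc.toBase D' g₀ j ≫ pullback.snd _ _)
      (D.obj j.left).hom s := by
    have h := (LimDesc.isPullback_stage D' g₀ j).flip.paste_vert (IsPullback.of_hasPullback (D.obj i₀).hom s)
    rwa [show D'.map j.hom ≫ (D.obj i₀).hom = (D.obj j.left).hom from Over.w (D.map j.hom)] at h
  let σ := hst.isoPullback
  obtain ⟨W, ⟨eW⟩⟩ := exists_extension_fp I (D.obj j.left).hom ((FEt.restrict σ.inv).obj Vj)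
  have hπ : LimDesc.proj D' g₀ c' hY j ≫ LimDesc.toStage D' g₀ j =
      pullback.fst f s ≫ e.inv.left ≫ (c.π.app j.left).left := by
    rw [LimDesc.proj_toStage]
    exact Category.assoc _ _ _
  refine ⟨(FEt.restrict (e.inv.left ≫ (c.π.app j.left).left)).obj W, ⟨?_⟩⟩
  refine ((LefEssSurj.restrictComp _ (e.inv.left ≫ (c.π.app j.left).left) _ rfl).app W).symm ≪≫
    (LefEssSurj.restrictComp (LimDesc.proj D' g₀ c' hY j ≫ σ.hom) (pullback.fst (D.obj j.left).hom s) _
      (by rw [Category.assoc, IsPullback.isoPullback_hom_fst, hπ])).app W ≪≫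
    (FEt.restrict _).mapIso eW ≪≫
    ((LefEssSurj.restrictComp (LimDesc.proj D' g₀ c' hY j ≫ σ.hom) σ.inv (LimDesc.proj D' g₀ c' hY j)
      (by rw [Category.assoc, Iso.hom_inv_id, Category.comp_id])).app Vj).symm ≪≫ ej

/-- **Proper base change for finite étale covers.** -/
theorem isEquivalence_restrict {X : Scheme.{u}} (f : X ⟶ Spec (CommRingCat.of A)) [IsProper f] :
    (FEt.restrict (pullback.fst f (Spec.map (CommRingCat.ofHom (Ideal.Quotient.mk I))))).IsEquivalence := by
  have h := FEtHens.finClopenLift_of_henselian A I f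
  haveI := FEtHens.faithful_restrict h
  haveI := FEtHens.full_restrict h
  haveI : (FEt.restrict (pullback.fst f (Spec.map (CommRingCat.ofHom (Ideal.Quotient.mk I))))).EssSurj :=
    ⟨fun V => by
      obtain ⟨W, hW⟩ := exists_extension I f V
      exact ⟨W, hW⟩⟩
  exact { }

end Groth.Agent.PBCPi1
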