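import Groth.Agent.LimDesc.Tower
import Groth.Agent.LimModel.FgSubalgebra
import Groth.Agent.FEtLim.Descend
import Groth.Agent.PBCPi1.Complete

/-!
Finite étale covers of base changes descend to finitely generated coefficient rings.
-/

set_option autoImplicit false
set_option linter.style.haveILetI false
set_option maxHeartbeats 1000000
set_option backward.isDefEq.respectTransparency false
set_option backward.isDefEq.respectTransparency.types false
universe u

open CategoryTheory CategoryTheory.Limits AlgebraicGeometry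

noncomputable section

namespace Groth.Agent.PBCPi1

variable {A₀ : Type u} [CommRing A₀] {X₀ : Scheme.{u}} (f₀ : X₀ ⟶ Spec (CommRingCat.of A₀))

/-- The base change of `X₀` along a ring map. -/
def P {T : Type u} [CommRing T] (ψ : A₀ →+* T) : Scheme.{u} :=
  pullback f₀ (Spec.map (CommRingCat.ofHom ψ))

/-- Functoriality in the ring. -/
def Pm {T T' : Type u} [CommRing T] [CommRing T'] {ψ : A₀ →+* T} {ψ' : A₀ →+* T'} (θ : T →+* T')
    (h : θ.comp ψ = ψ') : P f₀ ψ' ⟶ P f₀ ψ :=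
  pullback.lift (pullback.fst _ _) (pullback.snd _ _ ≫ Spec.map (CommRingCat.ofHom θ)) (by
    rw [pullback.condition, Category.assoc, ← Spec.map_comp, ← CommRingCat.ofHom_comp, h])

@[reassoc] theorem Pm_fst {T T' : Type u} [CommRing T] [CommRing T'] {ψ : A₀ →+* T} {ψ' : A₀ →+* T'} (θ : T →+* T')
    (h : θ.comp ψ = ψ') : Pm f₀ θ h ≫ pullback.fst _ _ = pullback.fst _ _ := pullback.lift_fst _ _ _

@[reassoc] theorem Pm_snd {T T' : Type u} [CommRing T] [CommRing T'] {ψ : A₀ →+* T} {ψ' : A₀ →+* T'} (θ : T →+* T')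
    (h : θ.comp ψ = ψ') :
    Pm f₀ θ h ≫ pullback.snd _ _ = pullback.snd _ _ ≫ Spec.map (CommRingCat.ofHom θ) := pullback.lift_snd _ _ _

theorem Pm_comp {T T' T'' : Type u} [CommRing T] [CommRing T'] [CommRing T''] {ψ : A₀ →+* T} {ψ' : A₀ →+* T'}
    {ψ'' : A₀ →+* T''} (θ : T →+* T') (h : θ.comp ψ = ψ') (θ' : T' →+* T'') (h' : θ'.comp ψ' = ψ'')
    (χ : T →+* T'') (hχ : χ.comp ψ = ψ'') (e : θ'.comp θ = χ) : Pm f₀ θ' h' ≫ Pm f₀ θ h = Pm f₀ χ hχ := by
  subst e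
  refine pullback.hom_ext ?_ ?_
  · rw [Category.assoc, Pm_fst, Pm_fst, Pm_fst]
  · rw [Category.assoc, Pm_snd, Pm_snd_assoc, Pm_snd, ← Spec.map_comp, ← CommRingCat.ofHom_comp]

/-- Comparison of iterated restrictions. -/
def pmIso {T T' T'' : Type u} [CommRing T] [CommRing T'] [CommRing T''] {ψ : A₀ →+* T} {ψ' : A₀ →+* T'}
    {ψ'' : A₀ →+* T''} (θ : T →+* T') (h : θ.comp ψ = ψ') (θ' : T' →+* T'') (h' : θ'.comp ψ' = ψ'')
    (χ : T →+* T'') (hχ : χ.comp ψ = ψ'') (e : θ'.comp θ = χ) (V : FEt.Cat (P f₀ ψ)) :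
    (FEt.restrict (Pm f₀ θ' h')).obj ((FEt.restrict (Pm f₀ θ h)).obj V) ≅ (FEt.restrict (Pm f₀ χ hχ)).obj V :=
  ((LefEssSurj.restrictComp (Pm f₀ θ' h') (Pm f₀ θ h) _ (Pm_comp f₀ θ h θ' h' χ hχ e)).app V).symm

theorem isProper_snd [IsProper f₀] {T : Type u} [CommRing T] (ψ : A₀ →+* T) :
    IsProper (pullback.snd f₀ (Spec.map (CommRingCat.ofHom ψ))) := inferInstance

/-- Covers descend to a finitely generated subring containing a given one. -/
theorem exists_stage_cover [QuasiCompact f₀] [QuasiSeparated f₀] {T : Type u} [CommRing T] (ψ : A₀ →+* T)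
    (B₀ : Subalgebra ℤ T) (hB₀ : B₀.FG) (hψ : ∀ a, ψ a ∈ B₀) (V : FEt.Cat (P f₀ ψ)) :
    ∃ (B : Subalgebra ℤ T) (_ : B.FG) (_ : B₀ ≤ B) (θ : A₀ →+* B) (h : B.val.toRingHom.comp θ = ψ)
      (VB : FEt.Cat (P f₀ θ)), Nonempty ((FEt.restrict (Pm f₀ B.val.toRingHom h)).obj VB ≅ V) := by
  let i₀ : (LimModel.FgSub T)ᵒᵖ := Opposite.op ⟨B₀, hB₀⟩
  let D := LimModel.fgDiagram T
  let c := LimModel.fgCone T
  haveI : IsCofiltered (LimModel.FgSub T)ᵒᵖ := isCofiltered_op_of_isFiltered _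
  haveI : ∀ {i j : (LimModel.FgSub T)ᵒᵖ} (f : i ⟶ j), IsAffineHom (D.map f) := fun f =>
    inferInstanceAs (IsAffineHom ((LimModel.fgDiagram T).map f))
  haveI : ∀ i : (LimModel.FgSub T)ᵒᵖ, IsAffine (D.obj i) := fun i => inferInstanceAs (IsAffine (Spec _))
  let t : A₀ →+* ↥B₀ := ψ.codRestrict B₀.toSubring hψ
  let u₀ : D.obj i₀ ⟶ Spec (CommRingCat.of A₀) := Spec.map (CommRingCat.ofHom t)
  let g₀ := pullback.snd f₀ u₀
  let g' : P f₀ ψ ⟶ c.pt := pullback.snd f₀ (Spec.map (CommRingCat.ofHom ψ))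
  have hw : Spec.map (CommRingCat.ofHom ψ) = c.π.app i₀ ≫ u₀ := by
    show _ = Spec.map _ ≫ Spec.map _
    rw [← Spec.map_comp]
    rfl
  have hbig : IsPullback (pullback.fst f₀ (Spec.map (CommRingCat.ofHom ψ))) g' f₀ (c.π.app i₀ ≫ u₀) := by
    rw [← hw]
    exact IsPullback.of_hasPullback f₀ (Spec.map (CommRingCat.ofHom ψ))
  let qY : P f₀ ψ ⟶ pullback f₀ u₀ := pullback.lift (pullback.fst f₀ _) (g' ≫ c.π.app i₀) (by
    rw [Category.assoc]; exact hbig.w)
  have hY : IsPullback qY g' g₀ (c.π.app i₀) :=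
    IsPullback.of_right (by rw [pullback.lift_fst]; exact hbig) (pullback.lift_snd _ _ _)
      (IsPullback.of_hasPullback f₀ u₀)
  haveI : CompactSpace ↥(pullback f₀ u₀) := QuasiCompact.compactSpace_of_compactSpace g₀
  haveI : QuasiSeparatedSpace ↥(pullback f₀ u₀) := quasiSeparatedSpace_of_quasiSeparated g₀
  haveI : ∀ j, CompactSpace ((LimDesc.tower D g₀).obj j) := fun j => LimDesc.compactSpace_stage D g₀ j
  haveI : ∀ j, QuasiSeparatedSpace ((LimDesc.tower D g₀).obj j) := fun j => LimDesc.quasiSeparatedSpace_stage D g₀ j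
  obtain ⟨j, Vj, ⟨ej⟩⟩ := FEtLim.exists_model (LimDesc.tower D g₀) (LimDesc.towerCone D g₀ c hY)
    (LimDesc.isLimitTowerCone D g₀ c hY (LimModel.fgIsLimit T)) V
  let B : Subalgebra ℤ T := j.left.unop.1
  have hle : B₀ ≤ B := leOfHom j.hom.unop
  let θ : A₀ →+* B := (Subalgebra.inclusion hle).toRingHom.comp t
  have hθ : B.val.toRingHom.comp θ = ψ := RingHom.ext fun a => rfl
  have hv : D.map j.hom ≫ u₀ = Spec.map (CommRingCat.ofHom θ) := by
    show Spec.map _ ≫ Spec.map _ = _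
    rw [← Spec.map_comp]
    rfl
  have hst : IsPullback (LimDesc.toBase D g₀ j ≫ pullback.fst f₀ u₀) (LimDesc.toStage D g₀ j) f₀
      (Spec.map (CommRingCat.ofHom θ)) := by
    rw [← hv]
    exact (LimDesc.isPullback_stage D g₀ j).paste_horiz (IsPullback.of_hasPullback f₀ u₀)
  let e : (LimDesc.tower D g₀).obj j ≅ P f₀ θ := hst.isoPullback
  have he : LimDesc.proj D g₀ c hY j = Pm f₀ B.val.toRingHom hθ ≫ e.inv := by
    rw [Iso.eq_comp_inv]
    refine pullback.hom_ext ?_ ?_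
    · rw [Pm_fst]
      show (LimDesc.proj D g₀ c hY j ≫ hst.isoPullback.hom) ≫ pullback.fst f₀ _ = _
      simp [qY]
    · rw [Pm_snd]
      show (LimDesc.proj D g₀ c hY j ≫ hst.isoPullback.hom) ≫ pullback.snd f₀ _ = _
      simp only [Category.assoc, IsPullback.isoPullback_hom_snd, LimDesc.proj_toStage]
      rfl
  exact ⟨B, j.left.unop.2, hle, θ, hθ, (FEt.restrict e.inv).obj Vj,
    ⟨((LefEssSurj.restrictComp _ e.inv _ he.symm).app Vj).symm ≪≫ ej⟩⟩

end Groth.Agent.PBCPi1
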